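import Mathlib

/-!
Automorphisms of elementary abelian two-groups with commutator subgroup of order four.
-/

set_option autoImplicit false
set_option linter.unusedSectionVars false
set_option linter.unusedVariables false
set_option linter.style.haveILetI false

namespace CfsgLib.FourComm

open Subgroup

universe u
variable {M : Type u} [CommGroup M] [Finite M]

/-- `m ↦ σ m · m`. -/
def psi (σ : MulAut M) : M →* M := σ.toMonoidHom * MonoidHom.id M

theorem psi_apply (σ : MulAut M) (m : M) : psi σ m = σ m * m := rfl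

theorem conj_psi_range (φ a : MulAut M) :
    (psi (φ * a * φ⁻¹)).range = (psi a).range.map φ.toMonoidHom := by
  ext w
  constructor
  · rintro ⟨m, rfl⟩
    exact ⟨psi a (φ⁻¹ m), ⟨_, rfl⟩, by simp [psi_apply]⟩
  · rintro ⟨_, ⟨m, rfl⟩, rfl⟩
    exact ⟨φ m, by simp [psi_apply]⟩

/-- Order three, image of order four. -/
structure Four (a : MulAut M) : Prop where
  cube : a ^ 3 = 1
  card : Nat.card (psi a).range = 4

variable (h2 : ∀ m : M, m * m = 1)

include h2 in
theorem inv_eq_self' (m : M) : m⁻¹ = m := inv_eq_of_mul_eq_one_right (h2 m)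

include h2 in
theorem psi_eq_one {σ : MulAut M} {m : M} : psi σ m = 1 ↔ σ m = m := by
  rw [psi_apply]
  constructor
  · intro h
    rw [eq_inv_of_mul_eq_one_left h, inv_eq_self' h2]
  · intro h; rw [h, h2]

include h2 in
/-- For order prime to two the image has no fixed points. -/
theorem psi_fpf {σ : MulAut M} {n : ℕ} (hn : Odd n) (hσ : σ ^ n = 1) {w : M} (hw : w ∈ (psi σ).range)
    (hf : σ w = w) : w = 1 := by
  obtain ⟨m, rfl⟩ := hw
  have h1 : σ m = m * psi σ m := by
    rw [psi_apply, mul_comm (σ m) m, ← mul_assoc, h2, one_mul]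
  have h : ∀ i : ℕ, (σ ^ i) m = m * psi σ m ^ i := fun i => by
    induction i with
    | zero => simp
    | succ i ih => rw [pow_succ', MulAut.mul_apply, ih, map_mul, map_pow, hf, h1, pow_succ', mul_assoc]
  have h3 := h n
  rw [hσ, MulAut.one_apply, left_eq_mul] at h3
  obtain ⟨k, rfl⟩ := hn
  rwa [pow_succ, pow_mul, pow_two, h2, one_pow, one_mul] at h3

variable {a b : MulAut M}

include h2 in
theorem Four.fpf (ha : Four a) {w : M} (hw : w ∈ (psi a).range) (hf : a w = w) : w = 1 :=
  psi_fpf h2 ⟨1, rfl⟩ ha.cube hw hf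

include h2 in
theorem Four.ne_one (ha : Four a) : a ≠ 1 := by
  rintro rfl
  have : (psi (1 : MulAut M)).range = ⊥ := by
    refine eq_bot_iff.mpr ?_
    rintro _ ⟨m, rfl⟩
    exact mem_bot.mpr ((psi_eq_one h2).mpr rfl)
  have h := ha.card
  rw [this, card_bot] at h
  omega

theorem Four.mem_apply (ha : Four a) {w : M} (hw : w ∈ (psi a).range) : a w ∈ (psi a).range := by
  obtain ⟨m, rfl⟩ := hw
  exact ⟨a m, by simp [psi_apply]⟩

include h2 in
/-- A nontrivial invariant subgroup of the image is all of it. -/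
theorem Four.eq_of_invariant (ha : Four a) {V : Subgroup M} (hV : V ≤ (psi a).range) (hVa : ∀ v ∈ V, a v ∈ V)
    (hV1 : V ≠ ⊥) : V = (psi a).range := by
  refine eq_of_le_of_card_ge hV ?_
  obtain ⟨v, hv, hv1⟩ : ∃ v ∈ V, v ≠ 1 := by
    by_contra h; push Not at h; exact hV1 (eq_bot_iff.mpr fun v hv => mem_bot.mpr (h v hv))
  have hav : a v ≠ v := fun h => hv1 (ha.fpf h2 (hV hv) h)
  have hc : Nat.card V ∣ 4 := ha.card ▸ card_dvd_of_le hV
  have h3 : 3 ≤ Nat.card V := by
    classical
    have h4 : Nat.card ({1, v, a v} : Finset M) ≤ Nat.card V := by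
      refine Nat.card_le_card_of_injective (fun t => (⟨t.1, ?_⟩ : V)) fun x y h => Subtype.ext (congrArg (fun q : V => (q : M)) h)
      rcases Finset.mem_insert.mp t.2 with h | h
      · rw [h]; exact one_mem _
      rcases Finset.mem_insert.mp h with h | h
      · rw [h]; exact hv
      · rw [Finset.mem_singleton.mp h]; exact hVa v hv
    have h1av : ¬(1 : M) = a v := fun h => hv1 ((MulEquiv.map_eq_one_iff a).mp h.symm)
    rw [Nat.card_eq_finsetCard, Finset.card_insert_of_notMem (by simp [hv1.symm, h1av]),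
      Finset.card_pair (Ne.symm hav)] at h4
    exact h4
  have := Nat.le_of_dvd (by norm_num) hc
  rw [ha.card]
  interval_cases h : Nat.card V
  · norm_num at hc
  · exact le_rfl

include h2 in
theorem Four.decomp (ha : Four a) (m : M) :
    ∃ w ∈ (psi a).range, ∃ c, a c = c ∧ m = w * c := by
  refine ⟨a m * a (a m), ⟨a m, by rw [psi_apply]; exact mul_comm _ _⟩, m * a m * a (a m), ?_, ?_⟩
  · have h3 : a (a (a m)) = m := by
      rw [← MulAut.mul_apply, ← MulAut.mul_apply, ← pow_two, ← pow_succ, ha.cube, MulAut.one_apply]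
    rw [map_mul, map_mul, h3]
    ac_rfl
  · calc m = m * ((a m * a m) * (a (a m) * a (a m))) := by rw [h2, h2, mul_one, mul_one]
      _ = _ := by ac_rfl

include h2 in
theorem Four.pair (ha : Four a) (hb : Four b) (hc : Commute a b) :
    b = a ∨ b = a ^ 2 ∨ ∀ w ∈ (psi a).range, b w = w := by
  by_cases hfix : ∀ w ∈ (psi a).range, b w = w
  · exact Or.inr (Or.inr hfix)
  push Not at hfix
  obtain ⟨w0, hw0, hw0b⟩ := hfix
  have hab : ∀ m, a (b m) = b (a m) := fun m => by rw [← MulAut.mul_apply, hc.eq, MulAut.mul_apply]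
  have hinv : ∀ w ∈ (psi a).range, b w ∈ (psi a).range := by
    rintro _ ⟨m, rfl⟩
    exact ⟨b m, by simp [psi_apply, hab]⟩
  have hI : (psi a).range ⊓ (psi b).range = (psi a).range := by
    refine ha.eq_of_invariant h2 inf_le_left (fun v hv => ⟨ha.mem_apply hv.1, ?_⟩) fun h => hw0b ?_
    · obtain ⟨m, rfl⟩ := hv.2
      exact ⟨a m, by simp [psi_apply, hab]⟩
    · exact (psi_eq_one h2).mp (mem_bot.mp (h ▸ ⟨mul_mem (hinv w0 hw0) hw0, w0, rfl⟩))
  have heq : (psi a).range = (psi b).range :=
    eq_of_le_of_card_ge (inf_eq_left.mp hI) (by rw [ha.card, hb.card])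
  have hfixc : ∀ c, a c = c → b c = c := fun c h => by
    refine (psi_eq_one h2).mp (ha.fpf h2 (heq ▸ ⟨c, rfl⟩) ?_)
    rw [psi_apply, map_mul, hab, h]
  have hbfpf : ∀ w ∈ (psi a).range, b w = w → w = 1 := fun w hw h => hb.fpf h2 (heq ▸ hw) h
  obtain ⟨w, hw, hw1⟩ : ∃ w ∈ (psi a).range, w ≠ 1 := ⟨w0, hw0, fun h => hw0b (by rw [h, map_one])⟩
  have hspan : ∀ σ τ : MulAut M, σ w = τ w → σ (a w) = τ (a w) → ∀ v ∈ (psi a).range, σ v = τ v := by
    intro σ τ h1 h2' v hv
    have hle : closure ({w, a w} : Set M) = (psi a).range := by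
      refine ha.eq_of_invariant h2 ((closure_le _).mpr ?_) ?_ fun h => hw1 ?_
      · rintro t (rfl | rfl)
        · exact hw
        · exact ha.mem_apply hw
      · intro v hv
        refine (show closure ({w, a w} : Set M) ≤ (closure ({w, a w} : Set M)).comap a.toMonoidHom from
          (closure_le _).mpr ?_) hv
        rintro t (rfl | rfl)
        · exact subset_closure (Or.inr rfl)
        · show a (a w) ∈ closure ({w, a w} : Set M)
          obtain ⟨m, rfl⟩ := hw
          have h3 : a (a (a m)) = m := by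
            rw [← MulAut.mul_apply, ← MulAut.mul_apply, ← pow_two, ← pow_succ, ha.cube, MulAut.one_apply]
          rw [show a (a (psi a m)) = psi a m * a (psi a m) by
            simp only [psi_apply, map_mul, h3]
            calc m * a (a m) = (a m * a m) * (m * a (a m)) := by rw [h2, one_mul]
              _ = _ := by ac_rfl]
          exact mul_mem (subset_closure (Or.inl rfl)) (subset_closure (Or.inr rfl))
      · exact mem_bot.mp (h ▸ subset_closure (Or.inl rfl))
    exact (MonoidHom.eqOn_closure (f := σ.toMonoidHom) (g := τ.toMonoidHom) (s := {w, a w})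
      (by rintro t (rfl | rfl) <;> assumption)) (hle ▸ hv)
  have hcases : b w = a w ∨ b w = a (a w) := by
    classical
    by_contra hno
    push Not at hno
    have h5 : Nat.card ({1, w, a w, a (a w), b w} : Finset M) ≤ Nat.card (psi a).range :=
      Nat.card_le_card_of_injective (fun t => (⟨t.1, by
        rcases Finset.mem_insert.mp t.2 with h | h
        · rw [h]; exact one_mem _
        rcases Finset.mem_insert.mp h with h | h
        · rw [h]; exact hw
        rcases Finset.mem_insert.mp h with h | h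
        · rw [h]; exact ha.mem_apply hw
        rcases Finset.mem_insert.mp h with h | h
        · rw [h]; exact ha.mem_apply (ha.mem_apply hw)
        · rw [Finset.mem_singleton.mp h]; exact hinv w hw⟩ : (psi a).range)) fun x y h => Subtype.ext (congrArg (fun q : (psi a).range => (q : M)) h)
    have n1 : a w ≠ w := fun h => hw1 (ha.fpf h2 hw h)
    have n2 : a (a w) ≠ w := fun h => n1 (by
      have h3 : a (a (a w)) = w := by
        rw [← MulAut.mul_apply, ← MulAut.mul_apply, ← pow_two, ← pow_succ, ha.cube, MulAut.one_apply]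
      rw [h] at h3; exact h3)
    have n3 : b w ≠ w := fun h => hw1 (hbfpf w hw h)
    have e1 : ∀ (σ : MulAut M) {v : M}, v ≠ 1 → ¬(1 : M) = σ v := fun σ {v} hv h => hv ((MulEquiv.map_eq_one_iff σ).mp h.symm)
    have q1 : ¬(1 : M) = w := fun h => hw1 h.symm
    have q2 : ¬(1 : M) = a w := e1 a hw1
    have q3 : ¬(1 : M) = a (a w) := e1 a (fun h => q2 h.symm)
    have q4 : ¬(1 : M) = b w := e1 b hw1
    have q5 : ¬a w = a (a w) := fun h => n1 (a.injective h).symm
    rw [Nat.card_eq_finsetCard, Finset.card_insert_of_notMem (by simp [q1, q2, q3, q4]),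
      Finset.card_insert_of_notMem (by simp [Ne.symm n1, Ne.symm n2, Ne.symm n3]),
      Finset.card_insert_of_notMem (by simp [Ne.symm hno.1, q5]),
      Finset.card_pair hno.2.symm, ha.card] at h5
    omega
  rcases hcases with h | h
  · refine Or.inl (MulEquiv.ext fun m => ?_)
    obtain ⟨v, hv, c, hc', rfl⟩ := ha.decomp h2 m
    rw [map_mul, map_mul, hfixc c hc', hc', hspan b a h (by rw [← hab, h]) v hv]
  · refine Or.inr (Or.inl (MulEquiv.ext fun m => ?_))
    obtain ⟨v, hv, c, hc', rfl⟩ := ha.decomp h2 m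
    rw [map_mul, map_mul, hfixc c hc', hspan b (a ^ 2) (by rw [pow_two, MulAut.mul_apply, h])
      (by rw [pow_two, MulAut.mul_apply, ← hab, h]) v hv, pow_two, MulAut.mul_apply, MulAut.mul_apply, hc', hc']

include h2 in
/-- If `[φ, a]` commutes with `φ` and `a`, then it is trivial. -/
theorem Four.commute_of (ha : Four a) {φ δ : MulAut M} (hb : φ * a * φ⁻¹ = δ * a) (hd : Commute δ a)
    (hf : Commute φ δ) : δ = 1 := by
  have h3 : δ * a = φ * a * φ⁻¹ := hb.symm
  have hfour : ∀ ψ : MulAut M, Four (ψ * a * ψ⁻¹) := fun ψ =>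
    ⟨by rw [conj_pow, ha.cube]; simp,
      by rw [conj_psi_range, card_map_of_injective ψ.injective, ha.card]⟩
  have hc1 : Commute a (δ * a) := hd.symm.mul_right (Commute.refl a)
  rcases ha.pair h2 (hb ▸ hfour φ) hc1 with h | h | h
  · simpa using h
  · have hda : δ = a := by
      have : δ * a = a * a := by rw [h, pow_two]
      exact mul_right_cancel this
    subst hda
    rw [hf.eq, mul_inv_cancel_right, left_eq_mul] at hb
    exact hb
  exfalso
  have hc' : φ * (δ * a) * φ⁻¹ = δ * δ * a := by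
    rw [show φ * (δ * a) * φ⁻¹ = φ * δ * φ⁻¹ * (φ * a * φ⁻¹) by group, hf.eq, mul_inv_cancel_right, hb, ← mul_assoc]
  have hcF : Four (δ * δ * a) := by
    rw [← hc', show φ * (δ * a) * φ⁻¹ = φ * (φ * a * φ⁻¹) * φ⁻¹ by rw [h3],
      show φ * (φ * a * φ⁻¹) * φ⁻¹ = (φ * φ) * a * (φ * φ)⁻¹ by group]
    exact hfour _
  have hbF : Four (δ * a) := hb ▸ hfour φ
  have hcb : δ * δ * a = (δ * a) * (δ * a) * a ^ 2 := by
    calc δ * δ * a = δ * δ * a * (a ^ 3) := by rw [ha.cube, mul_one]
      _ = δ * (δ * a) * a * a ^ 2 := by group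
      _ = δ * (a * δ) * a * a ^ 2 := by rw [hd.eq]
      _ = _ := by group
  have hac : Commute a (δ * δ * a) := (hd.symm.mul_right hd.symm).mul_right (Commute.refl a)
  obtain ⟨w, hw, hw1⟩ : ∃ w ∈ (psi a).range, w ≠ 1 := by
    by_contra hno; push Not at hno
    have := ha.card
    have hbot : (psi a).range = ⊥ := eq_bot_iff.mpr (fun w hw => mem_bot.mpr (hno w hw))
    rw [hbot, card_bot] at this
    omega
  have hcapp : ∀ t, (δ * δ * a) t = (δ * a) ((δ * a) (a (a t))) := fun t => by
    rw [hcb]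
    generalize δ * a = e
    simp [pow_two]
  have hcw : (δ * δ * a) w ≠ w := fun h' => by
    rw [hcapp, h _ (ha.mem_apply (ha.mem_apply hw)), h _ (ha.mem_apply (ha.mem_apply hw))] at h'
    have h3' : a (a (a w)) = w := by
      rw [← MulAut.mul_apply, ← MulAut.mul_apply, ← pow_two, ← pow_succ, ha.cube, MulAut.one_apply]
    rw [h'] at h3'
    exact hw1 (ha.fpf h2 hw h3')
  rcases ha.pair h2 hcF hac with hx | hx | hx
  rotate_left 2
  · exact hcw (hx w hw)
  all_goals
    obtain ⟨v, hv, hv1⟩ : ∃ v ∈ (psi (δ * a)).range, v ≠ 1 := by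
      by_contra hno; push Not at hno
      have := hbF.card
      have hbot : (psi (δ * a)).range = ⊥ := eq_bot_iff.mpr (fun w hw => mem_bot.mpr (hno w hw))
      rw [hbot, card_bot] at this
      omega
    have hav : a v = v := by
      by_contra hne
      have h' := hbF.pair h2 ha hc1.symm
      rcases h' with h' | h' | h'
      · rw [← h'] at h; exact hw1 (ha.fpf h2 hw (h w hw))
      · refine hw1 (ha.fpf h2 hw ?_)
        conv_lhs => rw [h', pow_two, MulAut.mul_apply, h w hw, h w hw]
      · exact hne (h' v hv)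
    have hv2 : (δ * δ * a) v ≠ v := by
      rw [hcapp, hav, hav]
      intro h'
      refine hv1 (hbF.fpf h2 hv ?_)
      have h3' : (δ * a) ((δ * a) ((δ * a) v)) = v := by
        rw [← MulAut.mul_apply, ← MulAut.mul_apply, ← pow_two, ← pow_succ, hbF.cube, MulAut.one_apply]
      rw [h'] at h3'
      exact h3'
  · exact hv2 (by rw [hx, hav])
  · exact hv2 (by rw [hx, pow_two, MulAut.mul_apply, hav, hav])

/-- A `p`-group of automorphisms with commutators inside a subgroup of order at most `16` has order at most `p`. -/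
theorem card_bound {p : ℕ} [hp : Fact p.Prime] (hp5 : 5 ≤ p) (h2 : ∀ m : M, m * m = 1) {D : Subgroup (MulAut M)}
    (hD : IsPGroup p D) {Y : Subgroup M} (hY : Nat.card Y ∣ 16) (hDY : ∀ d ∈ D, ∀ m, psi d m ∈ Y) (hne : D ≠ ⊥) :
    ∃ U : Subgroup M, U ≤ Y ∧ (Nat.card U = 8 ∨ Nat.card U = 16) ∧ p ∣ Nat.card U - 1 ∧ Nat.card D = p ∧
      ∀ d ∈ D, d ≠ 1 → U = (psi d).range := by
  classical
  haveI : Finite (MulAut M) := Finite.of_injective (fun f => (f : M → M)) DFunLike.coe_injective
  haveI : Nontrivial D := (nontrivial_iff_ne_bot D).mpr hne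
  haveI := hD.center_nontrivial
  obtain ⟨n, hn0, hn⟩ := (hD.to_subgroup (Subgroup.center D)).nontrivial_iff_card.mp inferInstance
  obtain ⟨⟨⟨z, hzD⟩, hzc⟩, hz⟩ := exists_prime_orderOf_dvd_card' (G := Subgroup.center D) p (hn ▸ dvd_pow_self p hn0.ne')
  have hzo : orderOf z = p := by rw [← hz, ← Subgroup.orderOf_coe, ← Subgroup.orderOf_coe]
  have hzp : z ^ p = 1 := hzo ▸ pow_orderOf_eq_one z
  have hodd : Odd p := hp.out.odd_of_ne_two (by omega)
  set U := (psi z).range with hU
  have hUY : U ≤ Y := by rintro _ ⟨m, rfl⟩; exact hDY z hzD m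
  have hfpf : ∀ u ∈ U, z u = u → u = 1 := fun u hu h => psi_fpf h2 hodd hzp hu h
  have hmap : ∀ u ∈ U, z u ∈ U := by rintro _ ⟨m, rfl⟩; exact ⟨z m, by simp [psi_apply]⟩
  have hU1 : U ≠ ⊥ := fun h => hp.out.ne_one (hzo ▸ orderOf_eq_one_iff.mpr (MulEquiv.ext fun m =>
    (psi_eq_one h2).mp (mem_bot.mp (h ▸ ⟨m, rfl⟩ : psi z m ∈ (⊥ : Subgroup M)))))
  -- orbit count
  have hdvd : ∀ V : Subgroup M, V ≤ U → (∀ v ∈ V, z v ∈ V) → p ∣ Nat.card V - 1 := by
    intro V hV hVz
    by_contra hd
    let σ : Equiv.Perm {v : V // v ≠ 1} := Equiv.ofBijective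
      (fun v => ⟨⟨z v.1, hVz _ v.1.2⟩, fun h => v.2 (Subtype.ext ((MulEquiv.map_eq_one_iff z).mp (congrArg Subtype.val h)))⟩)
      (Finite.injective_iff_bijective.mp fun x y h => Subtype.ext (Subtype.ext (z.injective
        (congrArg (fun t : {v : V // v ≠ 1} => ((t.1 : V) : M)) h))))
    have hit : ∀ (i : ℕ) (v : {v : V // v ≠ 1}), ((((σ ^ i) v).1 : V) : M) = (z ^ i) ((v.1 : V) : M) := fun i => by
      induction i with
      | zero => intro v; rfl
      | succ i ih =>
        intro v
        rw [pow_succ', Equiv.Perm.mul_apply]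
        show z ((((σ ^ i) v).1 : V) : M) = _
        rw [ih, pow_succ', MulAut.mul_apply]
    have hσ : σ ^ p ^ 1 = 1 := Equiv.ext fun v => Subtype.ext (Subtype.ext (by rw [hit, pow_one, hzp]; rfl))
    haveI := Fintype.ofFinite {v : V // v ≠ 1}
    haveI := Fintype.ofFinite V
    have hc : Fintype.card {v : V // v ≠ 1} = Nat.card V - 1 := by
      rw [Nat.card_eq_fintype_card, Fintype.card_subtype_compl, Fintype.card_subtype_eq]
    obtain ⟨v, hv⟩ := Equiv.Perm.exists_fixed_point_of_prime (hc ▸ hd) hσ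
    exact v.2 (Subtype.ext (hfpf _ (hV v.1.2) (congrArg (fun t : {v : V // v ≠ 1} => ((t.1 : V) : M)) hv)))
  have hsize : ∀ V : Subgroup M, V ≤ U → (∀ v ∈ V, z v ∈ V) → V ≠ ⊥ →
      (Nat.card V = 8 ∧ p = 7) ∨ (Nat.card V = 16 ∧ p = 5) := by
    intro V hV hVz hV1
    have h16 : Nat.card V ∣ 16 := (card_dvd_of_le (hV.trans hUY)).trans hY
    have hd := hdvd V hV hVz
    have hle : Nat.card V ≤ 16 := Nat.le_of_dvd (by norm_num) h16
    have hc1 : Nat.card V ≠ 1 := fun h => hV1 (eq_bot_of_card_eq V h)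
    have hpl : p ≤ Nat.card V - 1 := Nat.le_of_dvd (by have := Nat.card_pos (α := V); omega) hd
    have h5 : p ≤ 15 := by omega
    have hprime := hp.out
    generalize Nat.card V = n at *
    interval_cases n <;> interval_cases p
    all_goals (revert h16 hd hprime; decide)
  have hUc := hsize U le_rfl hmap hU1
  have hcomm : ∀ d ∈ D, ∀ m, d (z m) = z (d m) := fun d hd m => by
    have := congrArg Subtype.val (mem_center_iff.mp hzc ⟨d, hd⟩)
    change d * z = z * d at this
    rw [← MulAut.mul_apply, this, MulAut.mul_apply]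
  have hDU : ∀ d ∈ D, ∀ u ∈ U, d u ∈ U := by
    rintro d hd _ ⟨m, rfl⟩
    exact ⟨d m, by simp [psi_apply, hcomm d hd]⟩
  have hfree : ∀ d ∈ D, ∀ u ∈ U, u ≠ 1 → d u = u → d = 1 := by
    intro d hd u hu hu1 hdu
    obtain ⟨k, hk⟩ := hD ⟨d, hd⟩
    have hk' : d ^ p ^ k = 1 := congrArg Subtype.val hk
    -- `d` fixes `U`
    let V : Subgroup M :=
      { carrier := {v | v ∈ U ∧ d v = v}
        one_mem' := ⟨one_mem _, map_one d⟩
        mul_mem' := fun ha hb => ⟨mul_mem ha.1 hb.1, by rw [map_mul, ha.2, hb.2]⟩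
        inv_mem' := fun ha => ⟨inv_mem ha.1, by rw [map_inv, ha.2]⟩ }
    have hVU : V = U := by
      refine eq_of_le_of_card_ge (fun v hv => hv.1) ?_
      have h := hsize V (fun v hv => hv.1) (fun v hv => ⟨hmap v hv.1, by rw [hcomm d hd, hv.2]⟩)
        (fun h => hu1 (mem_bot.mp (h ▸ (⟨hu, hdu⟩ : u ∈ V))))
      omega
    -- `d` fixes the fixed points of `z`
    have hfixz : ∀ c, z c = c → d c = c := by
      intro c hc
      refine (psi_eq_one h2).mp (psi_fpf h2 (hodd.pow) hk' ⟨c, rfl⟩ ?_)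
      set y := psi d c with hy
      have hyz : z y = y := by rw [hy, psi_apply, map_mul, ← hcomm d hd, hc]
      have hyY : y ∈ Y := hDY d hd c
      by_contra hdy
      -- four elements fixed by `z` in `Y` are too many
      let C : Subgroup M :=
        { carrier := {v | v ∈ Y ∧ z v = v}
          one_mem' := ⟨one_mem _, map_one z⟩
          mul_mem' := fun ha hb => ⟨mul_mem ha.1 hb.1, by rw [map_mul, ha.2, hb.2]⟩
          inv_mem' := fun ha => ⟨inv_mem ha.1, by rw [map_inv, ha.2]⟩ }
      let f : U × C → Y := fun t => ⟨t.1 * t.2, mul_mem (hUY t.1.2) t.2.2.1⟩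
      have hf : Function.Injective f := fun s t h => by
        have e : (s.1 : M) * s.2 = t.1 * t.2 := congrArg Subtype.val h
        have e' : (s.1 : M) * (t.1 : M)⁻¹ = (t.2 : M) * (s.2 : M)⁻¹ := by
          rw [mul_inv_eq_iff_eq_mul, mul_comm (t.2 : M), mul_assoc, eq_inv_mul_iff_mul_eq, mul_comm, e]
          ac_rfl
        have h1 := hfpf _ (mul_mem s.1.2 (inv_mem t.1.2)) (by rw [e', map_mul, map_inv, t.2.2.2, s.2.2.2])
        have e1 : s.1 = t.1 := Subtype.ext (mul_inv_eq_one.mp h1)
        rw [e1] at e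
        exact Prod.ext e1 (Subtype.ext (mul_left_cancel e))
      have hle := Nat.card_le_card_of_injective f hf
      rw [Nat.card_prod] at hle
      have hY16 : Nat.card Y ≤ 16 := Nat.le_of_dvd (by norm_num) hY
      have hC2 : Nat.card C ≤ 2 := by rcases hUc with h | h <;> rw [h.1] at hle <;> omega
      have hdyC : d y ∈ C := ⟨by
          have e : d y = psi d y * y := by rw [psi_apply, mul_assoc, h2, mul_one]
          rw [e]; exact mul_mem (hDY d hd y) hyY, by rw [← hcomm d hd, hyz]⟩
      have h3 : Nat.card ({1, y, d y} : Finset M) ≤ Nat.card C := by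
        refine Nat.card_le_card_of_injective (fun t => (⟨t.1, ?_⟩ : C)) fun s t h => Subtype.ext (congrArg (fun q : C => (q : M)) h)
        rcases Finset.mem_insert.mp t.2 with h | h
        · rw [h]; exact one_mem _
        rcases Finset.mem_insert.mp h with h | h
        · rw [h]; exact ⟨hyY, hyz⟩
        · rw [Finset.mem_singleton.mp h]; exact hdyC
      have hy1 : y ≠ 1 := fun h => hdy (by rw [h, map_one])
      rw [Nat.card_eq_finsetCard, Finset.card_insert_of_notMem (by simp [Ne.symm hy1, Ne.symm ((MulEquiv.map_ne_one_iff d).mpr hy1)]),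
        Finset.card_pair (Ne.symm hdy)] at h3
      omega
    -- everything is the product
    have hsurj : ∀ m, ∃ v ∈ U, ∃ c, z c = c ∧ m = v * c := by
      intro m
      let C : Subgroup M :=
        { carrier := {v | z v = v}
          one_mem' := map_one z
          mul_mem' := fun {a b} (ha : z a = a) (hb : z b = b) => show z (a * b) = a * b by rw [map_mul, ha, hb]
          inv_mem' := fun {a} (ha : z a = a) => show z a⁻¹ = a⁻¹ by rw [map_inv, ha] }
      have hdis : U ⊓ C = ⊥ := eq_bot_iff.mpr fun v hv => mem_bot.mpr (hfpf v hv.1 hv.2)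
      have hker : (psi z).ker = C := by ext v; exact MonoidHom.mem_ker.trans (psi_eq_one h2)
      have hcard : Nat.card U * Nat.card C = Nat.card M := by
        rw [← hker, ← Subgroup.index_ker, mul_comm, card_mul_index]
      have hsup : U ⊔ C = ⊤ := (isComplement'_of_card_mul_and_disjoint hcard (disjoint_iff.mpr hdis)).sup_eq_top
      obtain ⟨v, hv, c, hc, rfl⟩ := mem_sup.mp (hsup ▸ mem_top m : m ∈ U ⊔ C)
      exact ⟨v, hv, c, hc, rfl⟩
    refine MulEquiv.ext fun m => ?_
    obtain ⟨v, hv, c, hc, rfl⟩ := hsurj m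
    rw [map_mul, hfixz c hc, ((hVU.ge hv : v ∈ V)).2]
    rfl
  obtain ⟨u0, hu0, hu01⟩ : ∃ u ∈ U, u ≠ 1 := by
    by_contra h; push Not at h; exact hU1 (eq_bot_iff.mpr fun u hu => mem_bot.mpr (h u hu))
  haveI := Fintype.ofFinite U
  let g : D → {u : U // u ≠ 1} := fun d => ⟨⟨(d : MulAut M) u0, hDU _ d.2 u0 hu0⟩,
    fun h => hu01 ((MulEquiv.map_eq_one_iff (d : MulAut M)).mp (congrArg Subtype.val h))⟩
  have hg : Function.Injective g := fun d d' h => by
    have e : (d : MulAut M) u0 = (d' : MulAut M) u0 := congrArg (fun t : {u : U // u ≠ 1} => ((t.1 : U) : M)) h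
    have h1 := hfree _ (D.mul_mem (D.inv_mem d'.2) d.2) u0 hu0 hu01 (by rw [MulAut.mul_apply, e, MulAut.inv_apply_self])
    exact Subtype.ext (inv_mul_eq_one.mp h1).symm
  have hle := Nat.card_le_card_of_injective g hg
  rw [Nat.card_eq_fintype_card (α := {u : U // u ≠ 1}), Fintype.card_subtype_compl, Fintype.card_subtype_eq,
    ← Nat.card_eq_fintype_card] at hle
  obtain ⟨k, hk0, hk⟩ := hD.nontrivial_iff_card.mp inferInstance
  have hcardD : Nat.card D = p := by
    have : k ≤ 1 := by
      by_contra hk2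
      have h25 : p ^ 2 ≤ p ^ k := Nat.pow_le_pow_right hp.out.pos (by omega)
      have : 25 ≤ p ^ 2 := by nlinarith
      rcases hUc with h | h <;> omega
    rw [hk, le_antisymm this hk0, pow_one]
  refine ⟨U, hUY, hUc.imp And.left And.left, hdvd U le_rfl hmap, hcardD, fun d hd hd1 => ?_⟩
  have hzp' : zpowers z = D := eq_of_le_of_card_ge (zpowers_le.mpr hzD) (by rw [Nat.card_zpowers, hzo, hcardD])
  have hsub : ∀ σ : MulAut M, ∀ n : ℕ, (psi (σ ^ n)).range ≤ (psi σ).range := fun σ n => by
    induction n with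
    | zero => rintro _ ⟨m, rfl⟩; rw [pow_zero, (psi_eq_one h2).mpr rfl]; exact one_mem _
    | succ n ih =>
      rintro _ ⟨m, rfl⟩
      have e : psi (σ ^ (n + 1)) m = psi (σ ^ n) (σ m) * psi σ m := by
        rw [psi_apply, psi_apply, psi_apply, pow_succ, MulAut.mul_apply,
          show (σ ^ n) (σ m) * σ m * (σ m * m) = (σ ^ n) (σ m) * (σ m * σ m) * m by ac_rfl, h2, mul_one]
      rw [e]
      exact mul_mem (ih ⟨_, rfl⟩) ⟨_, rfl⟩
  have hdo : orderOf d = p := orderOf_eq_prime (by
    have := pow_card_eq_one' (x := (⟨d, hd⟩ : D)); rw [hcardD] at this; exact congrArg Subtype.val this) hd1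
  have hdz : zpowers d = D := eq_of_le_of_card_ge (zpowers_le.mpr hd) (by rw [Nat.card_zpowers, hdo, hcardD])
  obtain ⟨n1, hn1⟩ := mem_powers_iff_mem_zpowers.mpr (hzp'.ge hd)
  obtain ⟨n2, hn2⟩ := mem_powers_iff_mem_zpowers.mpr (hdz.ge hzD)
  exact le_antisymm (by rw [hU, show z = d ^ n2 from hn2.symm]; exact hsub d n2)
    (by rw [hU, show d = z ^ n1 from hn1.symm]; exact hsub z n1)

end CfsgLib.FourComm
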