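import Cfsg.Agent.Lib.FourComm.Action
import Cfsg.Agent.Lib.MinSimpleOdd.Uniqueness
import Cfsg.Agent.Lib.HallPi
import Cfsg.Agent.Lib.PSolvable
import Cfsg.Agent.Lib.ZJ.Complement
import Cfsg.Agent.Lib.PGroup.RankTwoAut

/-!
An elementary abelian subgroup of order `r^3` centralising a commutator four group up to index `r`.
-/

set_option autoImplicit false
set_option linter.unusedSectionVars false
set_option linter.unusedVariables false
set_option linter.style.haveILetI false
set_option maxHeartbeats 1600000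

namespace CfsgLib.FourComm

open Subgroup Cfsg
open scoped commutatorElement

universe u v
variable {G : Type v} [Group G] [Finite G] {M : Type u} [CommGroup M] [Finite M]

/-- Image of a subgroup under an automorphism. -/
def mv (φ : MulAut M) (V : Subgroup M) : Subgroup M := V.map φ.toMonoidHom

theorem mv_mul (φ ψ : MulAut M) (V : Subgroup M) : mv (φ * ψ) V = mv φ (mv ψ V) := by
  rw [mv, mv, mv, Subgroup.map_map]; rfl

theorem mv_one (V : Subgroup M) : mv (1 : MulAut M) V = V := Subgroup.map_id V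

theorem mv_inv (φ : MulAut M) (V : Subgroup M) : mv φ⁻¹ (mv φ V) = V := by
  rw [← mv_mul, inv_mul_cancel, mv_one]

theorem mem_mv {φ : MulAut M} {V : Subgroup M} {w : M} : w ∈ mv φ V ↔ φ⁻¹ w ∈ V := by
  constructor
  · rintro ⟨v, hv, rfl⟩
    show φ⁻¹ (φ v) ∈ V
    rwa [MulAut.inv_apply_self]
  · exact fun h => ⟨φ⁻¹ w, h, MulAut.apply_inv_self M φ w⟩

theorem card_mv (φ : MulAut M) (V : Subgroup M) : Nat.card (mv φ V) = Nat.card V :=
  card_map_of_injective φ.injective

theorem psi_mul {h2 : ∀ m : M, m * m = 1} (σ τ : MulAut M) (m : M) : psi (σ * τ) m = psi σ (τ m) * psi τ m := by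
  rw [psi_apply, psi_apply, psi_apply, MulAut.mul_apply,
    show σ (τ m) * τ m * (τ m * m) = σ (τ m) * (τ m * τ m) * m by ac_rfl, h2, mul_one]

theorem psi_inv_mem (σ : MulAut M) (m : M) : psi σ⁻¹ m ∈ (psi σ).range :=
  ⟨σ⁻¹ m, by rw [psi_apply, psi_apply, MulAut.apply_inv_self, mul_comm]⟩

/-- The elements fixing a subgroup pointwise. -/
def fixer (π : G →* MulAut M) (V : Subgroup M) : Subgroup G where
  carrier := {f | ∀ w ∈ V, π f w = w}
  one_mem' := fun w _ => by rw [map_one]; rfl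
  mul_mem' := fun {a b} ha hb w hw => by rw [map_mul, MulAut.mul_apply, hb w hw, ha w hw]
  inv_mem' := fun {a} ha w hw => by
    rw [map_inv]; conv_lhs => rw [← ha w hw, MulAut.inv_apply_self]

/-- The conclusion. -/
def Good (π : G →* MulAut M) (V : Subgroup M) : Prop :=
  ∃ (r : ℕ) (F : Subgroup G), r.Prime ∧ r ≠ 2 ∧ IsElementaryAbelian r F ∧ Nat.card F = r ^ 3 ∧
    r ^ 2 ≤ Nat.card (F ⊓ fixer π V : Subgroup G)

theorem Four.exists_ne {a : MulAut M} (ha : Four a) : ∃ w ∈ (psi a).range, w ≠ 1 := by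
  by_contra hno
  push Not at hno
  have := ha.card
  have hbot : (psi a).range = ⊥ := eq_bot_iff.mpr (fun w hw => mem_bot.mpr (hno w hw))
  rw [hbot, card_bot] at this
  omega

/-- An automorphism of a four group whose square-free order is not two. -/
theorem fix_four {V : Subgroup M} (h2 : ∀ m : M, m * m = 1) (hV : Nat.card V = 4) {φ : MulAut M}
    (hφ : ∀ v ∈ V, φ v ∈ V) {w : M} (hw : w ∈ V) (hw1 : w ≠ 1) (hfix : φ w = w) (h3 : φ ^ 3 = 1) :
    ∀ v ∈ V, φ v = v := by
  classical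
  intro v hv
  by_cases hv1 : v = 1
  · rw [hv1, map_one]
  by_cases hvw : v = w
  · rw [hvw, hfix]
  have hfour : ∀ t ∈ V, t = 1 ∨ t = w ∨ t = v ∨ t = w * v := by
    intro t ht
    by_contra hno
    push Not at hno
    have h5 : Nat.card ({1, w, v, w * v, t} : Finset M) ≤ Nat.card V :=
      Nat.card_le_card_of_injective (fun t => (⟨t.1, by
        rcases Finset.mem_insert.mp t.2 with h | h
        · rw [h]; exact one_mem _
        rcases Finset.mem_insert.mp h with h | h
        · rw [h]; exact hw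
        rcases Finset.mem_insert.mp h with h | h
        · rw [h]; exact hv
        rcases Finset.mem_insert.mp h with h | h
        · rw [h]; exact mul_mem hw hv
        · rw [Finset.mem_singleton.mp h]; exact ht⟩ : V)) fun x y h => Subtype.ext (congrArg (fun q : V => (q : M)) h)
    have q1 : ¬(1 : M) = w := fun h => hw1 h.symm
    have q2 : ¬(1 : M) = v := fun h => hv1 h.symm
    have q3 : ¬(1 : M) = w * v := fun h => hvw (by rw [eq_inv_of_mul_eq_one_right h.symm, inv_eq_self' h2])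
    have q5 : ¬(1 : M) = t := fun h => hno.1 h.symm
    rw [Nat.card_eq_finsetCard, Finset.card_insert_of_notMem (by simp [q1, q2, q3, q5]),
      Finset.card_insert_of_notMem (by simp [Ne.symm hvw, hv1, Ne.symm hno.2.1]),
      Finset.card_insert_of_notMem (by simp [hw1, Ne.symm hno.2.2.1]),
      Finset.card_pair (Ne.symm hno.2.2.2), hV] at h5
    omega
  rcases hfour (φ v) (hφ v hv) with h | h | h | h
  · exact absurd ((MulEquiv.map_eq_one_iff φ).mp h) hv1
  · exact absurd (φ.injective (h.trans hfix.symm)) hvw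
  · exact h
  · have h' : φ (φ v) = v := by rw [h, map_mul, hfix, h, ← mul_assoc, h2, one_mul]
    have h'' : φ (φ (φ v)) = v := by
      rw [← MulAut.mul_apply, ← MulAut.mul_apply, ← pow_two, ← pow_succ, h3, MulAut.one_apply]
    rwa [h'] at h''

variable (π : G →* MulAut M) {x : G} (h2 : ∀ m : M, m * m = 1) (ha : Four (π x))

theorem conj_eq (f : G) : π f * π x * (π f)⁻¹ = π ⁅f, x⁆ * π x := by
  rw [← map_inv, ← map_mul, ← map_mul, ← map_mul, commutatorElement_def]
  congr 1
  group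

theorem range_conj (f : G) : (psi (π ⁅f, x⁆ * π x)).range = mv (π f) (psi (π x)).range := by
  rw [← conj_eq π f, conj_psi_range]
  rfl

include h2 ha in
theorem preserves {T Ω : Subgroup G} (hT : Group.IsNilpotent T) (hx : x ∈ T) (hΩT : Ω ≤ T)
    (hnorm : ∀ t ∈ T, ∀ f ∈ Ω, t * f * t⁻¹ ∈ Ω) (hcomm : ∀ f ∈ Ω, ∀ g ∈ Ω, Commute f g) {f : G} (hf : f ∈ Ω) :
    mv (π f) (psi (π x)).range = (psi (π x)).range := by
  haveI := hT
  obtain ⟨c, hc⟩ : ∃ c, (⊤ : Subgroup T).lowerCentralSeries c = ⊥ := ⟨_, Subgroup.lowerCentralSeries_nilpotencyClass⟩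
  have key : ∀ k, ∀ f : T, (f : G) ∈ Ω → f ∈ (⊤ : Subgroup T).lowerCentralSeries (c - k) →
      π ⁅(f : G), x⁆ = 1 := by
    intro k
    induction k with
    | zero =>
      intro f _ hfl
      rw [Nat.sub_zero, hc, mem_bot] at hfl
      rw [hfl, OneMemClass.coe_one, commutatorElement_one_left, map_one]
    | succ k ih =>
      intro f hfΩ hfl
      rcases Nat.lt_or_ge k c with hk | hk
      swap
      · exact ih f hfΩ (by rwa [show c - k = c - (k + 1) by omega])
      let g : T := ⁅f, ⟨x, hx⟩⁆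
      have hgΩ : (g : G) ∈ Ω := by
        show (f : G) * x * (f : G)⁻¹ * x⁻¹ ∈ Ω
        rw [mul_assoc (f : G) x, mul_assoc (f : G)]
        exact Ω.mul_mem hfΩ (hnorm x hx _ (Ω.inv_mem hfΩ))
      have hgl : g ∈ (⊤ : Subgroup T).lowerCentralSeries (c - k) := by
        rw [show c - k = (c - (k + 1)) + 1 by omega, Subgroup.lowerCentralSeries_succ]
        exact commutator_mem_commutator hfl (mem_top _)
      have h1 : π ⁅(g : G), x⁆ = 1 := ih g hgΩ hgl
      have hd : Commute (π (g : G)) (π x) := by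
        rwa [← commutatorElement_eq_one_iff_commute, ← map_commutatorElement]
      exact ha.commute_of h2 (φ := π (f : G)) (δ := π (g : G)) (conj_eq π (f : G)) hd
        ((hcomm _ hfΩ _ hgΩ).map π)
  have h := key c ⟨f, hΩT hf⟩ hf (by simp [Subgroup.lowerCentralSeries_zero])
  rw [← range_conj, show π ⁅f, x⁆ = 1 from h, one_mul]

include h2 ha in
theorem good_of_rank {T : Subgroup G} (hT : IsPGroup 3 T) (hx : x ∈ T) (hr : ¬ PRankLE 3 2 T) :
    Good π (psi (π x)).range := by
  haveI : Fact (Nat.Prime 3) := ⟨Nat.prime_three⟩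
  obtain ⟨A, ⟨hAT, hTA, -⟩, hAc, hA3⟩ := CfsgLib.MinSimpleOdd.exists_scn_three hT (by norm_num) hr
  have hAcomm : ∀ a ∈ A, ∀ b ∈ A, Commute a b := fun a ha b hb =>
    congrArg Subtype.val (hAc.1.comm (⟨a, ha⟩ : A) ⟨b, hb⟩)
  let Ω : Subgroup G :=
    { carrier := {f | f ∈ A ∧ f ^ 3 = 1}
      one_mem' := ⟨one_mem _, one_pow _⟩
      mul_mem' := fun {a b} ha hb => ⟨mul_mem ha.1 hb.1, by rw [(hAcomm a ha.1 b hb.1).mul_pow, ha.2, hb.2, one_mul]⟩
      inv_mem' := fun {a} ha => ⟨inv_mem ha.1, by rw [inv_pow, ha.2, inv_one]⟩ }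
  have hΩT : Ω ≤ T := fun f hf => hAT hf.1
  have hnorm : ∀ t ∈ T, ∀ f ∈ Ω, t * f * t⁻¹ ∈ Ω := fun t ht f hf =>
    ⟨(mem_normalizer_iff.mp (hTA ht) f).mp hf.1, by rw [conj_pow, hf.2]; group⟩
  have hcomm : ∀ f ∈ Ω, ∀ g ∈ Ω, Commute f g := fun f hf g hg => hAcomm f hf.1 g hg.1
  haveI : Group.IsNilpotent T := hT.isNilpotent
  have hpres : ∀ f ∈ Ω, mv (π f) (psi (π x)).range = (psi (π x)).range := fun f hf =>
    preserves π h2 ha inferInstance hx hΩT hnorm hcomm hf
  obtain ⟨k, hk⟩ := (hT.to_le hΩT).exists_card_eq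
  have hk3 : 3 ≤ k := by
    by_contra hk3
    apply hA3
    intro B hBc hB
    have hle : B.map A.subtype ≤ Ω := by
      rintro _ ⟨b, hb, rfl⟩
      exact ⟨b.2, by rw [← map_pow, hB b hb, map_one]⟩
    rw [← card_map_of_injective A.subtype_injective (K := B)]
    exact (Nat.le_of_dvd Nat.card_pos (card_dvd_of_le hle)).trans (hk ▸ Nat.pow_le_pow_right (by norm_num) (by omega))
  obtain ⟨w, hw, hw1⟩ := ha.exists_ne
  set K : Subgroup Ω := (fixer π (psi (π x)).range).subgroupOf Ω with hK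
  have hmem : ∀ f ∈ Ω, ∀ v ∈ (psi (π x)).range, π f v ∈ (psi (π x)).range := fun f hf v hv =>
    (hpres f hf).le ⟨v, hv, rfl⟩
  have hidx : K.index ≤ 3 := by
    rw [Subgroup.index]
    have hinj : Function.Injective (fun q : Ω ⧸ K => (⟨⟨π (q.out : G) w, hmem _ q.out.2 w hw⟩,
        fun h => hw1 ((MulEquiv.map_eq_one_iff (π (q.out : G))).mp (congrArg Subtype.val h))⟩ :
        {v : (psi (π x)).range // v ≠ 1})) := by
      intro q q' h
      have e : π (q.out : G) w = π (q'.out : G) w :=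
        congrArg (fun t : {v : (psi (π x)).range // v ≠ 1} => ((t.1 : (psi (π x)).range) : M)) h
      rw [← QuotientGroup.out_eq' q, ← QuotientGroup.out_eq' q', QuotientGroup.eq]
      refine mem_subgroupOf.mpr ?_
      have hg : ((q.out⁻¹ * q'.out : Ω) : G) ∈ Ω := (q.out⁻¹ * q'.out).2
      refine fix_four h2 ha.card (hmem _ hg) hw hw1 ?_ ?_
      · simp only [Subgroup.coe_mul, InvMemClass.coe_inv, map_mul, map_inv, MulAut.mul_apply, ← e,
          MulAut.inv_apply_self]
      · rw [← map_pow, hg.2, map_one]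
    refine (Nat.card_le_card_of_injective _ hinj).trans ?_
    classical
    haveI := Fintype.ofFinite (psi (π x)).range
    rw [Nat.card_eq_fintype_card, Fintype.card_subtype_compl, Fintype.card_subtype_eq,
      ← Nat.card_eq_fintype_card, ha.card]
  have hK9 : 3 ^ 2 ∣ Nat.card K := by
    obtain ⟨j, hj⟩ := ((hT.to_le hΩT).to_subgroup K).exists_card_eq
    rw [hj]
    refine pow_dvd_pow 3 ?_
    by_contra hj2
    have h := card_mul_index K
    rw [hj, hk] at h
    have h1 : 3 ^ k ≤ 3 ^ j * 3 := h ▸ Nat.mul_le_mul le_rfl hidx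
    rw [← pow_succ] at h1
    have := (Nat.pow_le_pow_iff_right (by norm_num)).mp h1
    omega
  obtain ⟨F0, hF0⟩ := Sylow.exists_subgroup_card_pow_prime 3 hK9
  obtain ⟨F, hF, hF0F⟩ := Sylow.exists_subgroup_card_pow_prime_le (G := Ω) (p := 3) (m := 3) (n := 2)
    (hk ▸ pow_dvd_pow 3 hk3) (F0.map K.subtype) (by rw [card_map_of_injective K.subtype_injective, hF0]) (by norm_num)
  refine ⟨3, F.map Ω.subtype, Nat.prime_three, by norm_num, ⟨⟨⟨?_⟩⟩, ?_⟩,
    by rw [card_map_of_injective Ω.subtype_injective, hF], ?_⟩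
  · rintro ⟨_, a, ha', rfl⟩ ⟨_, b, hb', rfl⟩
    exact Subtype.ext (hcomm _ a.2 _ b.2).eq
  · rintro _ ⟨a, -, rfl⟩
    exact a.2.2
  · rw [← hF0, ← card_map_of_injective (K := F0) (f := Ω.subtype.comp K.subtype) (Ω.subtype_injective.comp K.subtype_injective)]
    refine Nat.le_of_dvd Nat.card_pos (card_dvd_of_le ?_)
    rintro _ ⟨f, hf, rfl⟩
    exact ⟨⟨_, hF0F ⟨f, hf, rfl⟩, rfl⟩, mem_subgroupOf.mp f.2⟩

/-- An automorphism of prime order at least five fixing a four group fixes it pointwise. -/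
theorem fix_four_of_prime {V : Subgroup M} (h2 : ∀ m : M, m * m = 1) (hV : Nat.card V = 4) {p : ℕ}
    (hp : p.Prime) (hp5 : 5 ≤ p) {φ : MulAut M} (hφp : φ ^ p = 1) (hφ : mv φ V = V) : ∀ v ∈ V, φ v = v := by
  classical
  intro v hv
  by_contra hne
  have hmap : ∀ t ∈ V, φ t ∈ V := fun t ht => hφ.le ⟨t, ht, rfl⟩
  have hpow : ∀ i : ℕ, (φ ^ i) v ∈ V := fun i => by
    induction i with
    | zero => exact hv
    | succ i ih => rw [pow_succ', MulAut.mul_apply]; exact hmap _ ih
  have hinj : Function.Injective (fun i : Fin p => (⟨(φ ^ (i : ℕ)) v, hpow i⟩ : V)) := by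
    intro i j h
    by_contra hij
    apply hne
    have h' : (φ ^ (i : ℕ)) v = (φ ^ (j : ℕ)) v := congrArg (fun t : V => (t : M)) h
    wlog hlt : (i : ℕ) < j generalizing i j
    · exact this h.symm (Ne.symm hij) h'.symm (lt_of_le_of_ne (not_lt.mp hlt) (fun e => hij (Fin.ext e.symm)))
    have hd : (φ ^ ((j : ℕ) - i)) v = v := by
      apply (φ ^ (i : ℕ)).injective
      rw [← MulAut.mul_apply, ← pow_add, show (i : ℕ) + ((j : ℕ) - i) = j by omega, h']
    have hco : Nat.Coprime ((j : ℕ) - i) p :=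
      ((Nat.Prime.coprime_iff_not_dvd hp).mpr (Nat.not_dvd_of_pos_of_lt (by omega) (by omega))).symm
    obtain ⟨k, hk⟩ := Nat.exists_mul_mod_eq_one_of_coprime hco hp.one_lt
    have e : φ = (φ ^ ((j : ℕ) - i)) ^ k := by
      rw [← pow_mul, ← Nat.mod_add_div (((j : ℕ) - i) * k) p, hk.2, pow_add, pow_mul, hφp, one_pow, mul_one, pow_one]
    have hfix : ∀ n : ℕ, ((φ ^ ((j : ℕ) - i)) ^ n) v = v := fun n => by
      induction n with
      | zero => rfl
      | succ n ih => rw [pow_succ, MulAut.mul_apply, hd, ih]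
    rw [e]; exact hfix k
  have := Nat.card_le_card_of_injective _ hinj
  rw [Nat.card_eq_fintype_card, Fintype.card_fin, hV] at this
  omega

theorem card_sup_dvd {A B : Subgroup M} : Nat.card (A ⊔ B : Subgroup M) ∣ Nat.card A * Nat.card B := by
  have e : (A.subtype.coprod B.subtype).range = A ⊔ B := by
    rw [MonoidHom.range_eq_map, ← top_prod_top]
    refine le_antisymm ?_ (sup_le ?_ ?_)
    · rintro _ ⟨t, -, rfl⟩; exact mul_mem_sup t.1.2 t.2.2
    · exact fun t ht => ⟨(⟨t, ht⟩, 1), by simp, by simp⟩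
    · exact fun t ht => ⟨(1, ⟨t, ht⟩), by simp, by simp⟩
  rw [← e, ← Nat.card_prod]
  exact Subgroup.card_range_dvd _

include h2 ha in
theorem two_members {p : ℕ} [Fact p.Prime] (hp5 : 5 ≤ p) {O : Subgroup G} (hO : IsPGroup p O)
    (hOx : ∀ f ∈ O, x * f * x⁻¹ ∈ O) {f : G} (hf : f ∈ O)
    (hne : mv (π f) (psi (π x)).range ≠ (psi (π x)).range) :
    p = 7 ∧ Nat.card ((psi (π x)).range ⊓ mv (π f) (psi (π x)).range : Subgroup M) = 2 ∧
      Nat.card ((psi (π x)).range ⊔ mv (π f) (psi (π x)).range : Subgroup M) = 8 ∧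
      ∃ d ∈ O, ∀ u ∈ (psi (π x)).range ⊔ mv (π f) (psi (π x)).range, π d u = u → u = 1 := by
  have hp := (Fact.out : p.Prime)
  set W := (psi (π x)).range with hW
  set W' := mv (π f) W with hW'
  set Y := W ⊔ W' with hY
  have hY16 : Nat.card Y ∣ 16 := by
    have h := card_sup_dvd (A := W) (B := W')
    rwa [hW', card_mv, hW, ha.card] at h
  have hdO : ⁅f, x⁆ ∈ O := by
    rw [commutatorElement_def, mul_assoc f x, mul_assoc f]
    exact O.mul_mem hf (hOx _ (O.inv_mem hf))
  have hrange : ∀ m, psi (π ⁅f, x⁆ * π x) m ∈ W' := fun m => by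
    have := range_conj π (x := x) f
    exact this.le ⟨m, rfl⟩
  have hinvY : ∀ σ : MulAut M, (∀ m, psi σ m ∈ Y) → ∀ y ∈ Y, σ y ∈ Y := fun σ hσ y hy => by
    have e : σ y = psi σ y * y := by rw [psi_apply, mul_assoc, h2, mul_one]
    rw [e]; exact mul_mem (hσ y) hy
  have hWY : W ≤ Y := le_sup_left
  let D : Subgroup (MulAut M) :=
    { carrier := {δ | δ ∈ O.map π ∧ ∀ m, psi δ m ∈ Y}
      one_mem' := ⟨one_mem _, fun m => by rw [(psi_eq_one h2).mpr rfl]; exact one_mem _⟩
      mul_mem' := fun {s t} hs ht => ⟨mul_mem hs.1 ht.1, fun m => by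
        rw [psi_mul (h2 := h2)]; exact mul_mem (hs.2 _) (ht.2 m)⟩
      inv_mem' := fun {s} hs => ⟨inv_mem hs.1, fun m => by
        obtain ⟨m', hm'⟩ := psi_inv_mem s m
        rw [← hm']; exact hs.2 m'⟩ }
  have hdD : π ⁅f, x⁆ ∈ D := ⟨⟨_, hdO, rfl⟩, fun m => by
    have e : π ⁅f, x⁆ = (π ⁅f, x⁆ * π x) * (π x)⁻¹ := (mul_inv_cancel_right _ _).symm
    rw [e, psi_mul (h2 := h2)]
    exact mul_mem (le_sup_right (a := W) (hrange _)) (hWY (psi_inv_mem _ m))⟩
  set d := π ⁅f, x⁆ with hd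
  have hd1 : d ≠ 1 := fun h => hne (by rw [hW', hW, ← range_conj π f, ← hd, h, one_mul])
  have hDp : IsPGroup p D := (hO.map π).to_le (fun δ hδ => hδ.1)
  obtain ⟨U, hUY, hU, hpU, hDc, hDU⟩ := card_bound hp5 h2 hDp hY16 (fun δ hδ => hδ.2)
    (fun h => hd1 (mem_bot.mp (h ▸ hdD)))
  have hUd : U = (psi d).range := hDU d hdD hd1
  have hdp : d ^ p = 1 := by
    have := pow_card_eq_one' (x := (⟨d, hdD⟩ : D))
    rw [hDc] at this
    exact congrArg Subtype.val this
  set a := π x with hax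
  have hbcube : (d * a) ^ 3 = 1 := by
    rw [hd, hax, ← conj_eq, conj_pow, ha.cube, mul_one, mul_inv_cancel]
  have hncomm : ¬ Commute a d := fun hc => hd1 (by
    rw [hc.symm.mul_pow, ha.cube, mul_one] at hbcube
    have hco : Nat.Coprime 3 p := (Nat.coprime_primes Nat.prime_three hp).mpr (by omega)
    exact orderOf_eq_one_iff.mp (Nat.eq_one_of_dvd_coprimes hco (orderOf_dvd_of_pow_eq_one hbcube)
      (orderOf_dvd_of_pow_eq_one hdp)))
  have hconjD : ∀ δ ∈ D, a * δ * a⁻¹ ∈ D := by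
    rintro δ ⟨⟨o, ho, rfl⟩, hδY⟩
    refine ⟨⟨x * o * x⁻¹, hOx o ho, by rw [map_mul, map_mul, map_inv]⟩, fun m => ?_⟩
    have h1 : psi (a * π o * a⁻¹) m = a (psi (π o) (a⁻¹ m)) := by
      simp [psi_apply]
    rw [h1]
    exact hinvY a (fun m => hWY ⟨m, rfl⟩) _ (hδY _)
  have hzp : zpowers d = D := eq_of_le_of_card_ge (zpowers_le.mpr hdD)
    (by rw [Nat.card_zpowers, hDc, orderOf_eq_prime hdp hd1])
  obtain ⟨k, hk⟩ := mem_powers_iff_mem_zpowers.mpr (hzp.ge (hconjD d hdD))
  have hk : d ^ k = a * d * a⁻¹ := hk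
  have hp7 : p = 7 ∧ Nat.card U = 8 := by
    rcases hU with h | h
    · rw [h] at hpU
      exact ⟨(Nat.prime_dvd_prime_iff_eq hp (by norm_num)).mp hpU, h⟩
    exfalso
    rw [h] at hpU
    have hp' : p = 5 := by
      rcases (Nat.Prime.dvd_mul hp).mp (show p ∣ 3 * 5 from hpU) with h | h
      · have := Nat.le_of_dvd (by norm_num) h; omega
      · exact (Nat.prime_dvd_prime_iff_eq hp (by norm_num)).mp h
    have hk3 : d ^ (k * k * k) = d := by
      have hconj : ∀ n : ℕ, a * d ^ n * a⁻¹ = d ^ (k * n) := fun n => by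
        rw [← conj_pow, ← hk, pow_mul]
      have e1 : a * (a * (a * d * a⁻¹) * a⁻¹) * a⁻¹ = d := by
        calc _ = a ^ 3 * d * (a ^ 3)⁻¹ := by simp [pow_succ, mul_assoc]
          _ = d := by rw [ha.cube]; group
      rw [← hk, hconj, hconj] at e1
      rwa [mul_assoc]
    apply hncomm
    have h5 : orderOf d = 5 := hp' ▸ orderOf_eq_prime hdp hd1
    have hm : k * k * k % 5 = 1 % 5 := by
      have := (pow_eq_pow_iff_modEq (x := d) (n := k * k * k) (m := 1)).mp (by rw [hk3, pow_one])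
      rwa [h5] at this
    have hk1 : k % 5 = 1 := by
      rw [Nat.mul_mod, Nat.mul_mod k k] at hm
      have := Nat.mod_lt k (show 5 > 0 by norm_num)
      revert hm
      generalize k % 5 = r at this ⊢
      interval_cases r <;> decide
    have : a * d * a⁻¹ = d := by
      rw [← hk, ← Nat.mod_add_div k 5, hk1, pow_add, pow_mul, ← h5, pow_orderOf_eq_one, one_pow, mul_one, pow_one]
    exact (mul_inv_eq_iff_eq_mul.mp this)
  obtain ⟨rfl, hU8⟩ := hp7
  have hfix : ∀ δ ∈ D, (∀ u ∈ U, δ u = u) → δ = 1 := by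
    intro δ hδ hδU
    by_contra hne1
    have hδo : δ ^ 7 = 1 := by
      have := pow_card_eq_one' (x := (⟨δ, hδ⟩ : D))
      rw [hDc] at this
      exact congrArg Subtype.val this
    have : U = ⊥ := eq_bot_iff.mpr fun u hu =>
      mem_bot.mpr (psi_fpf h2 (n := 7) (by decide) hδo (hDU δ hδ hne1 ▸ hu) (hδU u hu))
    rw [this, card_bot] at hU8
    omega
  have hUmap : ∀ u ∈ U, d u ∈ U := by
    rw [hUd]; rintro _ ⟨m, rfl⟩; exact ⟨d m, by simp [psi_apply]⟩
  have hne' : a * d * a⁻¹ ≠ 1 := fun h => hd1 (by rwa [conj_eq_one_iff] at h)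
  have haU : ∀ u ∈ U, a u ∈ U := by
    intro u hu
    obtain ⟨m, rfl⟩ := hUd.le hu
    rw [hDU _ (hconjD d hdD) hne']
    exact ⟨a m, by simp [psi_apply]⟩
  have hpsiU : ∀ σ : MulAut M, (∀ u ∈ U, σ u ∈ U) → ∀ u ∈ U, psi σ u ∈ U := fun σ hσ u hu =>
    mul_mem (hσ u hu) hu
  have hbU : ∀ u ∈ U, (d * a) u ∈ U := fun u hu => hUmap _ (haU u hu)
  have hWU : W ≤ U := by
    have hinv : ∀ v ∈ W ⊓ U, a v ∈ W ⊓ U := fun v hv => ⟨ha.mem_apply hv.1, haU v hv.2⟩
    refine inf_eq_left.mp (ha.eq_of_invariant h2 inf_le_left hinv fun hbot => hncomm ?_)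
    have hf : ∀ u ∈ U, a u = u := fun u hu => (psi_eq_one h2).mp
      (mem_bot.mp (hbot ▸ ⟨⟨u, rfl⟩, hpsiU a haU u hu⟩))
    have := hfix _ (D.mul_mem (hconjD d hdD) (D.inv_mem hdD)) fun u hu => by
      have hdi : d⁻¹ u ∈ U := by
        rw [hUd] at hu ⊢
        obtain ⟨m, rfl⟩ := hu
        exact ⟨d⁻¹ m, by simp [psi_apply]⟩
      have hai : a⁻¹ (d⁻¹ u) = d⁻¹ u := by
        conv_lhs => rw [← hf _ hdi, MulAut.inv_apply_self]
      rw [MulAut.mul_apply, MulAut.mul_apply, MulAut.mul_apply, hai, MulAut.apply_inv_self, hf u hu]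
    exact mul_inv_eq_iff_eq_mul.mp (mul_inv_eq_one.mp this)
  have hbF : Four (d * a) := ⟨hbcube, by rw [hd, hax, range_conj, card_mv, ha.card]⟩
  have hW'eq : W' = (psi (d * a)).range := (range_conj π f).symm
  have hW'U : W' ≤ U := by
    rw [hW'eq]
    have hinv : ∀ v ∈ (psi (d * a)).range ⊓ U, (d * a) v ∈ (psi (d * a)).range ⊓ U := fun v hv =>
      ⟨hbF.mem_apply hv.1, hbU v hv.2⟩
    refine inf_eq_left.mp (hbF.eq_of_invariant h2 inf_le_left hinv fun hbot => hd1 ?_)
    have hf : ∀ u ∈ U, d (a u) = u := fun u hu => (psi_eq_one h2 (σ := d * a)).mp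
      (mem_bot.mp (hbot ▸ (⟨⟨u, rfl⟩, hpsiU (d * a) hbU u hu⟩ : psi (d * a) u ∈ (psi (d * a)).range ⊓ U)))
    have h3 : ∀ u ∈ U, d⁻¹ (d⁻¹ (d⁻¹ u)) = u := fun u hu => by
      have e : ∀ v ∈ U, a v = d⁻¹ v := fun v hv => by
        conv_rhs => rw [← hf v hv, MulAut.inv_apply_self]
      have ee : a (a (a u)) = u := by
        rw [← MulAut.mul_apply, ← MulAut.mul_apply, ← pow_two, ← pow_succ, ha.cube, MulAut.one_apply]
      rw [e _ (haU _ (haU u hu)), e _ (haU u hu), e u hu] at ee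
      exact ee
    have h31 := hfix (d⁻¹ * d⁻¹ * d⁻¹) (D.mul_mem (D.mul_mem (D.inv_mem hdD) (D.inv_mem hdD)) (D.inv_mem hdD))
      fun u hu => by rw [MulAut.mul_apply, MulAut.mul_apply]; exact h3 u hu
    have h3' : d ^ 3 = 1 := by
      calc d ^ 3 = (d⁻¹ * d⁻¹ * d⁻¹)⁻¹ := by group
        _ = 1 := by rw [h31, inv_one]
    exact orderOf_eq_one_iff.mp (Nat.eq_one_of_dvd_coprimes (by decide : Nat.Coprime 3 7)
      (orderOf_dvd_of_pow_eq_one h3') (orderOf_dvd_of_pow_eq_one hdp))
  have hYU : Y = U := le_antisymm (sup_le hWU hW'U) hUY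
  have hY8 : Nat.card Y = 8 := hYU ▸ hU8
  refine ⟨rfl, ?_, hY8, ⁅f, x⁆, hdO, fun u hu h => psi_fpf h2 (n := 7) (by decide) hdp (hUd ▸ hYU ▸ hu) h⟩
  have hW4 : Nat.card W = 4 := ha.card
  have hlt : W ⊓ W' ≠ W := fun h => hne (eq_of_le_of_card_ge (inf_eq_left.mp h) (by rw [hW', card_mv])).symm
  have hnb : W ⊓ W' ≠ ⊥ := by
    intro hb
    have h16 : Nat.card (W × W') ≤ Nat.card Y := Nat.card_le_card_of_injective
      (fun t => (⟨(t.1 : M) * t.2, mul_mem_sup t.1.2 t.2.2⟩ : Y)) fun s t h => by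
        have e : (s.1 : M) * s.2 = t.1 * t.2 := congrArg Subtype.val h
        exact Subgroup.mul_injective_of_disjoint (disjoint_iff.mpr hb) e
    rw [Nat.card_prod, hW', card_mv, hW4, hY8] at h16
    omega
  obtain ⟨j, hj, hj'⟩ := (Nat.dvd_prime_pow Nat.prime_two).mp (show Nat.card (W ⊓ W' : Subgroup M) ∣ 2 ^ 2 from
    (card_dvd_of_le inf_le_left).trans (by rw [hW4]; norm_num))
  rw [hj']
  interval_cases j
  · exact absurd (eq_bot_of_card_eq _ hj') hnb
  · rfl
  · exact absurd (eq_of_le_of_card_ge inf_le_left (by rw [hj', hW4]; norm_num)) hlt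

include h2 ha in
theorem good_of_normalised {p : ℕ} [Fact p.Prime] (hp5 : 5 ≤ p) {O E : Subgroup G} (hO : IsPGroup p O)
    (hOx : ∀ f ∈ O, x * f * x⁻¹ ∈ O) (hEO : E ≤ O) (hE : IsElementaryAbelian p E) (hE3 : Nat.card E = p ^ 3) :
    Good π (psi (π x)).range := by
  classical
  have hp := (Fact.out : p.Prime)
  set W := (psi (π x)).range with hW
  let K : Subgroup E :=
    { carrier := {f | mv (π (f : G)) W = W}
      one_mem' := by show mv (π ((1 : E) : G)) W = W; rw [OneMemClass.coe_one, map_one, mv_one]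
      mul_mem' := fun {s t} (hs : mv (π (s : G)) W = W) (ht : mv (π (t : G)) W = W) => by
        show mv (π ((s * t : E) : G)) W = W
        rw [Subgroup.coe_mul, map_mul, mv_mul, ht, hs]
      inv_mem' := fun {s} (hs : mv (π (s : G)) W = W) => by
        show mv (π ((s⁻¹ : E) : G)) W = W
        conv_lhs => rw [← hs, InvMemClass.coe_inv, map_inv, mv_inv] }
  have hq : Function.Injective (fun q : E ⧸ K => mv (π (q.out : G)) W) := by
    intro q q' h
    rw [← QuotientGroup.out_eq' q, ← QuotientGroup.out_eq' q', QuotientGroup.eq]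
    show mv (π ((q.out⁻¹ * q'.out : E) : G)) W = W
    rw [Subgroup.coe_mul, InvMemClass.coe_inv, map_mul, mv_mul, ← show mv (π (q.out : G)) W = mv (π (q'.out : G)) W from h,
      map_inv, mv_inv]
  have hidx : K.index < p ^ 2 := by
    by_cases hall : ∀ f ∈ O, mv (π f) W = W
    · rw [show K = ⊤ from eq_top_iff.mpr fun f _ => hall _ (hEO f.2), index_top]
      exact Nat.one_lt_pow two_ne_zero hp.one_lt
    push Not at hall
    obtain ⟨f0, hf0, hf0W⟩ := hall
    obtain ⟨rfl, hl, hY8, d, hdO, hdfix⟩ := two_members π h2 ha hp5 hO hOx hf0 hf0W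
    set U0 := W ⊔ mv (π f0) W with hU0
    -- any two members meet in order two
    have hpair : ∀ g ∈ O, ∀ g' ∈ O, mv (π g) W ≠ mv (π g') W →
        Nat.card (mv (π g) W ⊓ mv (π g') W : Subgroup M) = 2 := by
      intro g hg g' hg' hne
      have hne' : mv (π (g⁻¹ * g')) W ≠ W := fun h => hne (by
        conv_lhs => rw [← h, ← mv_mul, ← map_mul, mul_inv_cancel_left])
      have h := (two_members π h2 ha hp5 hO hOx (O.mul_mem (O.inv_mem hg) hg') hne').2.1
      rw [← card_mv (π g), mv, Subgroup.map_inf _ _ _ (π g).injective] at h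
      have e : ∀ V : Subgroup M, V.map (π g).toMonoidHom = mv (π g) V := fun _ => rfl
      rw [e, e, ← mv_mul, ← map_mul, mul_inv_cancel_left] at h
      exact h
    have hallU : ∀ g ∈ O, mv (π g) W ≤ U0 := by
      by_contra hno
      push Not at hno
      obtain ⟨g1, hg1, hg1U⟩ := hno
      set l := W ⊓ mv (π f0) W with hl'
      have hlcard : Nat.card l = 2 := hl
      have hbad : ∀ g ∈ O, ¬ mv (π g) W ≤ U0 → mv (π g) W ⊓ U0 = l := by
        intro g hg hgU
        have h4 : Nat.card (mv (π g) W ⊓ U0 : Subgroup M) ≤ 2 := by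
          obtain ⟨j, hj, hj'⟩ := (Nat.dvd_prime_pow Nat.prime_two).mp
            (show Nat.card (mv (π g) W ⊓ U0 : Subgroup M) ∣ 2 ^ 2 from
              (card_dvd_of_le inf_le_left).trans (by rw [card_mv, hW, ha.card]; norm_num))
          rw [hj']
          rcases Nat.lt_or_ge j 2 with hj2 | hj2
          · exact (Nat.pow_le_pow_right (by norm_num) (by omega : j ≤ 1)).trans (by norm_num)
          exact absurd (inf_eq_left.mp (eq_of_le_of_card_ge inf_le_left
            (by rw [hj', card_mv, hW, ha.card]; exact (Nat.pow_le_pow_right (by norm_num) hj2 : 2 ^ 2 ≤ 2 ^ j)))) hgU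
        have hk : ∀ g' ∈ O, mv (π g') W ≤ U0 → mv (π g) W ⊓ mv (π g') W = mv (π g) W ⊓ U0 := fun g' hg' hle =>
          eq_of_le_of_card_ge (inf_le_inf_left _ hle)
            (h4.trans (hpair g hg g' hg' (fun h => hgU (h ▸ hle))).ge)
        have h1 := hk 1 O.one_mem (by rw [map_one, mv_one]; exact le_sup_left)
        have h2' := hk f0 hf0 le_sup_right
        rw [map_one, mv_one] at h1
        refine eq_of_le_of_card_ge (le_inf (h1 ▸ inf_le_right) (h2' ▸ inf_le_right)) ?_
        rw [hlcard, ← h1]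
        exact (hpair g hg 1 O.one_mem (by rw [map_one, mv_one]; exact fun h => hgU (h.le.trans le_sup_left))).ge.trans_eq
          (by rw [map_one, mv_one])
      have hlmem : ∀ g ∈ O, l ≤ mv (π g) W := by
        intro g hg
        by_cases hgU : mv (π g) W ≤ U0
        · have hne : mv (π g) W ≠ mv (π g1) W := fun h => hg1U (h ▸ hgU)
          have hle : mv (π g1) W ⊓ mv (π g) W ≤ l := hbad g1 hg1 hg1U ▸ inf_le_inf_left _ hgU
          exact (eq_of_le_of_card_ge hle (hlcard.le.trans (hpair g1 hg1 g hg (Ne.symm hne)).ge)).ge.trans inf_le_right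
        · exact (hbad g hg hgU).ge.trans inf_le_left
      obtain ⟨t, ht, ht1⟩ : ∃ t ∈ l, t ≠ 1 := by
        by_contra h; push Not at h
        have hbot : l = ⊥ := eq_bot_iff.mpr (fun t ht => mem_bot.mpr (h t ht))
        rw [hbot, card_bot] at hlcard
        omega
      refine ht1 (hdfix t ((inf_le_left : l ≤ W).trans le_sup_left ht) ?_)
      -- `l` is fixed by `O`
      have hdl : π d t ∈ l := by
        refine ⟨?_, ?_⟩
        · obtain ⟨v, hv, hv'⟩ := hlmem d⁻¹ (O.inv_mem hdO) ht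
          rw [show π d t = v by rw [← hv', map_inv]; exact MulAut.apply_inv_self M (π d) v]
          exact hv
        · have := hlmem (d⁻¹ * f0) (O.mul_mem (O.inv_mem hdO) hf0) ht
          show π d t ∈ mv (π f0) W
          rw [mem_mv] at this ⊢
          rw [map_mul, map_inv, mul_inv_rev, inv_inv, MulAut.mul_apply] at this
          exact this
      obtain ⟨s, hs, hs'⟩ := (Nat.card_eq_two_iff' (1 : l)).mp hlcard
      exact congrArg (fun q : l => (q : M)) ((hs' ⟨π d t, hdl⟩ fun h => ht1 ((MulEquiv.map_eq_one_iff (π d)).mp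
        (congrArg Subtype.val h))).trans (hs' ⟨t, ht⟩ fun h => ht1 (congrArg Subtype.val h)).symm)
    -- at most thirty five subgroups of order four
    haveI := Fintype.ofFinite M
    let code : E ⧸ K → Finset M := fun q =>
      (Finset.univ.filter fun m => m ∈ mv (π (q.out : G)) W).erase 1
    have hcode : Function.Injective code := fun q q' h => hq (by
      ext m
      by_cases hm : m = 1
      · simp [hm, one_mem]
      have := Finset.ext_iff.mp h m
      simpa [code, hm] using this)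
    have hmem : ∀ q, code q ∈ ((Finset.univ.filter fun m => m ∈ U0).erase 1).powersetCard 3 := by
      intro q
      rw [Finset.mem_powersetCard]
      refine ⟨Finset.erase_subset_erase _ fun m hm => ?_, ?_⟩
      · simp only [Finset.mem_filter, Finset.mem_univ, true_and] at hm ⊢
        exact hallU _ (hEO q.out.2) hm
      · rw [Finset.card_erase_of_mem (by simp), ← Fintype.card_subtype]
        have h4 : Nat.card (mv (π (q.out : G)) W) = 4 := by rw [card_mv, hW, ha.card]
        rw [Nat.card_eq_fintype_card] at h4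
        rw [show Fintype.card {m // m ∈ mv (π (q.out : G)) W} = 4 from by convert h4]
    have hle : Nat.card (E ⧸ K) ≤ _ := Nat.card_le_card_of_injective
      (fun q => (⟨code q, hmem q⟩ : {s // s ∈ ((Finset.univ.filter fun m => m ∈ U0).erase 1).powersetCard 3}))
      fun q q' h => hcode (congrArg Subtype.val h)
    rw [Nat.card_eq_finsetCard, Finset.card_powersetCard, Finset.card_erase_of_mem (by simp),
      ← Fintype.card_subtype] at hle
    rw [show Fintype.card {m // m ∈ U0} = 8 from by rw [← Nat.card_eq_fintype_card]; exact hY8] at hle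
    exact lt_of_le_of_lt hle (by decide)
  refine ⟨p, E, hp, by omega, hE, hE3, ?_⟩
  have hle : K.map E.subtype ≤ E ⊓ fixer π W := by
    rintro _ ⟨f, hf, rfl⟩
    exact ⟨f.2, fix_four_of_prime h2 ha.card hp hp5 (by rw [← map_pow]; exact (hE.2 _ f.2).symm ▸ map_one π) hf⟩
  refine le_trans ?_ (Nat.le_of_dvd Nat.card_pos (card_dvd_of_le hle))
  rw [card_map_of_injective E.subtype_injective]
  obtain ⟨j, hj, hj'⟩ := (Nat.dvd_prime_pow hp).mp (hE3 ▸ card_subgroup_dvd_card K)
  rw [hj']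
  refine Nat.pow_le_pow_right hp.pos ?_
  by_contra hj2
  have h := card_mul_index K
  rw [hj', hE3] at h
  have h1 : p ^ j * K.index < p ^ j * p ^ 2 := Nat.mul_lt_mul_of_pos_left hidx (pow_pos hp.pos _)
  rw [h, ← pow_add] at h1
  have := (Nat.pow_lt_pow_iff_right hp.one_lt).mp h1
  omega

include h2 ha in
theorem good [Group.IsSolvable G] (hx3 : ∃ n, x ^ 3 ^ n = 1) {p : ℕ} (hp : p.Prime) (hp2 : p ≠ 2) {E : Subgroup G}
    (hE : IsElementaryAbelian p E) (hE3 : Nat.card E = p ^ 3) : Good π (psi (π x)).range := by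
  haveI : Fact (Nat.Prime 3) := ⟨Nat.prime_three⟩
  haveI : Fact p.Prime := ⟨hp⟩
  obtain ⟨n, hn⟩ := hx3
  obtain ⟨j, -, hj⟩ := (Nat.dvd_prime_pow Nat.prime_three).mp (orderOf_dvd_of_pow_eq_one hn)
  have hX : IsPGroup 3 (zpowers x) := IsPGroup.of_card (n := j) (by rw [Nat.card_zpowers, hj])
  by_cases hr : PRankLE 3 2 G
  swap
  · obtain ⟨T, hT⟩ := hX.exists_le_sylow
    refine good_of_rank π h2 ha T.2 (hT (mem_zpowers x)) fun hT2 => hr fun B hBc hB => ?_
    have hBp : IsPGroup 3 B := fun b => ⟨1, Subtype.ext (by simpa using hB b b.2)⟩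
    obtain ⟨S, hS⟩ := hBp.exists_le_sylow
    obtain ⟨g, hg⟩ := MulAction.exists_smul_eq G S T
    let c : G →* G := (MulAut.conj g).toMonoidHom
    have hle : B.map c ≤ T := by
      rw [← hg, Sylow.coe_subgroup_smul, Subgroup.pointwise_smul_def]
      exact Subgroup.map_mono hS
    have := hT2 ((B.map c).subgroupOf T) ⟨⟨fun s t => Subtype.ext (Subtype.ext (by
        obtain ⟨u, hu, hu'⟩ := s.2
        obtain ⟨v, hv, hv'⟩ := t.2
        show (s.1 : G) * t.1 = t.1 * s.1
        rw [show (s.1 : G) = c u from hu'.symm, show (t.1 : G) = c v from hv'.symm, ← map_mul, ← map_mul]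
        exact congrArg c (congrArg Subtype.val (hBc.1.comm (⟨u, hu⟩ : B) ⟨v, hv⟩))))⟩⟩
      fun s hs => Subtype.ext (by
        obtain ⟨u, hu, hu'⟩ := hs
        rw [Subgroup.coe_pow, OneMemClass.coe_one, show (s : G) = c u from hu'.symm, ← map_pow, hB u hu, map_one])
    rwa [Nat.card_congr (subgroupOfEquivOfLe hle).toEquiv, card_map_of_injective (MulAut.conj g).injective] at this
  have hp5 : 5 ≤ p := by
    rcases eq_or_ne p 3 with rfl | hp3
    · exact absurd (hr E hE.1 hE.2) (by rw [hE3]; norm_num)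
    · have := hp.two_le
      by_contra h
      interval_cases p <;> first | omega | (exact absurd hp (by decide))
  obtain ⟨H, hH⟩ := CfsgLib.exists_isPiHallOf ({3, p} : Set ℕ) (M := (⊤ : Subgroup G)) inferInstance
  obtain ⟨g1, -, hg1⟩ := CfsgLib.pi_le_conj_hall (U := zpowers x) (inferInstance) hH le_top (fun q hq hd => by
    rw [Nat.card_zpowers, hj] at hd
    exact Or.inl ((Nat.prime_dvd_prime_iff_eq hq Nat.prime_three).mp (hq.dvd_of_dvd_pow hd)))
  obtain ⟨g2, -, hg2⟩ := CfsgLib.pi_le_conj_hall (U := E) (inferInstance) hH le_top (fun q hq hd => by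
    rw [hE3] at hd
    exact Or.inr ((Nat.prime_dvd_prime_iff_eq hq hp).mp (hq.dvd_of_dvd_pow hd)))
  let c : G →* G := (MulAut.conj g1).toMonoidHom
  set H' := H.comap c with hH'
  have hxH : x ∈ H' := hg1 (by rw [Subgroup.pointwise_smul_def]; exact ⟨x, mem_zpowers x, rfl⟩)
  set E' := E.map (MulAut.conj (g1⁻¹ * g2)).toMonoidHom with hE'
  have hEH : E' ≤ H' := by
    rintro _ ⟨e, he, rfl⟩
    have : c (MulAut.conj (g1⁻¹ * g2) e) = MulAut.conj g2 e := by
      show MulAut.conj g1 (MulAut.conj (g1⁻¹ * g2) e) = _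
      simp [MulAut.conj_apply, mul_assoc]
    show c (MulAut.conj (g1⁻¹ * g2) e) ∈ H
    rw [this]
    exact hg2 (by rw [Subgroup.pointwise_smul_def]; exact ⟨e, he, rfl⟩)
  have hcard' : ∀ q, q.Prime → q ∣ Nat.card H' → q = 3 ∨ q = p := fun q hq hd => by
    refine hH.2.1 q hq (hd.trans ?_)
    rw [← card_map_of_injective (f := c) (MulAut.conj g1).injective (K := H')]
    exact card_dvd_of_le (Subgroup.map_comap_le c H)
  have hE'a : IsElementaryAbelian p E' := by
    refine ⟨⟨⟨?_⟩⟩, ?_⟩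
    · rintro ⟨_, a, ha', rfl⟩ ⟨_, b, hb', rfl⟩
      refine Subtype.ext ?_
      show _ * _ = _ * _
      rw [← map_mul, ← map_mul]
      exact congrArg _ (congrArg Subtype.val (hE.1.1.comm (⟨a, ha'⟩ : E) ⟨b, hb'⟩))
    · rintro _ ⟨a, ha', rfl⟩
      rw [← map_pow, hE.2 a ha', map_one]
  refine good_of_normalised π h2 ha hp5 (O := (pCore p H').map H'.subtype) (E := E')
    ((CfsgLib.isPGroup_pCore p).map _) ?_ ?_ hE'a (by rw [hE', card_map_of_injective (MulAut.conj _).injective, hE3])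
  · rintro _ ⟨o, ho, rfl⟩
    exact ⟨(⟨x, hxH⟩ : H') * o * (⟨x, hxH⟩ : H')⁻¹, Normal.conj_mem inferInstance o ho _, rfl⟩
  -- every element of order `p` lies in the core
  intro e he
  refine ⟨⟨e, hEH he⟩, ?_, rfl⟩
  haveI : Group.IsSolvable H' := inferInstance
  set O := pCore p H' with hO
  let y : H' ⧸ O := QuotientGroup.mk' O ⟨e, hEH he⟩
  rw [SetLike.mem_coe, ← QuotientGroup.eq_one_iff]
  show y = 1
  have hyp : y ^ p = 1 := by
    rw [← map_pow, show (⟨e, hEH he⟩ : H') ^ p = 1 from Subtype.ext (hE'a.2 e he), map_one]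
  have hKO : pCore p (H' ⧸ O) = ⊥ := CfsgLib.ZJ.pCore_quotient_pCore_eq_bot
  have hK3 : pPrimeCore 3 (H' ⧸ O) = ⊥ := by
    refine eq_bot_iff.mpr (hKO ▸ CfsgLib.le_pCore ?_)
    obtain ⟨-, hN⟩ : True ∧ (Nat.card (pPrimeCore 3 (H' ⧸ O))).Coprime 3 := ⟨trivial, CfsgLib.card_pPrimeCore_coprime 3⟩
    refine IsPGroup.of_card (n := (Nat.card (pPrimeCore 3 (H' ⧸ O))).primeFactorsList.length)
      (Nat.eq_prime_pow_of_unique_prime_dvd Nat.card_pos.ne' fun {q} hq hd => ?_)
    rcases hcard' q hq (hd.trans ((card_subgroup_dvd_card _).trans (card_quotient_dvd_card _))) with rfl | rfl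
    · exact absurd hd ((Nat.Prime.coprime_iff_not_dvd Nat.prime_three).mp hN.symm)
    · rfl
  set R := pCore 3 (H' ⧸ O) with hR
  have hRp : IsPGroup 3 R := CfsgLib.isPGroup_pCore 3
  have hRr : PRankLE 3 2 R := by
    intro B hBc hB
    set B1 := B.map R.subtype with hB1
    set P := B1.comap (QuotientGroup.mk' O) with hP
    obtain ⟨T⟩ := (inferInstance : Nonempty (Sylow 3 P))
    set T1 := (T : Subgroup P).map P.subtype with hT1
    have hOp : IsPGroup p O := CfsgLib.isPGroup_pCore p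
    have hinj : ∀ s ∈ T1, QuotientGroup.mk' O s = 1 → s = 1 := fun s hs h => by
      have hsO : s ∈ O := (QuotientGroup.eq_one_iff s).mp h
      obtain ⟨a, ha'⟩ := hOp ⟨s, hsO⟩
      obtain ⟨t, ht, rfl⟩ := hs
      obtain ⟨b, hb⟩ := T.2 ⟨t, ht⟩
      have e1 : (t : H') ^ p ^ a = 1 := congrArg Subtype.val ha'
      have e2 : (t : H') ^ 3 ^ b = 1 := congrArg (fun q : (T : Subgroup P) => ((q : P) : H')) hb
      exact orderOf_eq_one_iff.mp (Nat.eq_one_of_dvd_coprimes
        (((Nat.coprime_primes hp Nat.prime_three).mpr (by omega)).pow a b)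
        (orderOf_dvd_of_pow_eq_one e1) (orderOf_dvd_of_pow_eq_one e2))
    have himg : ∀ s ∈ T1, QuotientGroup.mk' O s ∈ B1 := by
      rintro _ ⟨t, -, rfl⟩
      exact t.2
    let φ : T1.map H'.subtype →* H' ⧸ O := (QuotientGroup.mk' O).comp
      ((Subgroup.inclusion (Subgroup.map_subtype_le T1)).comp (MonoidHom.id _))
    have hφ : Function.Injective φ := by
      rw [injective_iff_map_eq_one]
      rintro ⟨_, s, hs, rfl⟩ h
      exact Subtype.ext (show ((s : H') : G) = 1 from congrArg Subtype.val (hinj s hs h))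
    have hT2 : IsMulCommutative (T1.map H'.subtype) := ⟨⟨fun s t => hφ (by
      rw [map_mul, map_mul]
      obtain ⟨_, s', hs, rfl⟩ := s
      obtain ⟨_, t', ht, rfl⟩ := t
      obtain ⟨u, hu, hu'⟩ := himg s' hs
      obtain ⟨v, hv, hv'⟩ := himg t' ht
      show QuotientGroup.mk' O s' * QuotientGroup.mk' O t' = QuotientGroup.mk' O t' * QuotientGroup.mk' O s'
      rw [← hu', ← hv', ← map_mul, ← map_mul]
      exact congrArg _ (congrArg Subtype.val (hBc.1.comm (⟨u, hu⟩ : B) ⟨v, hv⟩)))⟩⟩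
    have h := hr (T1.map H'.subtype) hT2 fun s hs => by
      obtain ⟨s', hs', rfl⟩ := hs
      rw [← map_pow, show s' ^ 3 = 1 from hinj _ (pow_mem hs' 3) (by
        rw [map_pow]
        obtain ⟨u, hu, hu'⟩ := himg s' hs'
        rw [← hu', ← map_pow, hB u hu, map_one]), map_one]
    refine le_trans ?_ h
    rw [card_map_of_injective H'.subtype_injective, hT1, card_map_of_injective P.subtype_injective,
      T.card_eq_multiplicity]
    obtain ⟨b, hb⟩ := (hRp.to_subgroup B).exists_card_eq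
    obtain ⟨o, ho⟩ := hOp.exists_card_eq
    have hPc : Nat.card P = Nat.card O * Nat.card B := by
      rw [hP, CfsgLib.card_comap_mk, hB1, card_map_of_injective R.subtype_injective]
    rw [hPc, hb, ho, Nat.factorization_mul (by positivity) (by positivity), Finsupp.add_apply,
      Nat.Prime.factorization_pow hp, Nat.Prime.factorization_pow Nat.prime_three,
      Finsupp.single_eq_of_ne (by omega), Finsupp.single_eq_same, zero_add]
  have hyC : y ∈ centralizer (R : Set (H' ⧸ O)) := by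
    let α : MulAut R := MulAut.conjNormal y
    have hα : α = 1 := by
      by_contra h1
      have ho : orderOf α = p := orderOf_eq_prime (by rw [← map_pow, hyp, map_one]) h1
      have := (CfsgLib.PGroupRankTwo.aut_prime_dvd (by norm_num) hRp hRr p hp (by omega) (ho.symm.dvd.trans (orderOf_dvd_natCard α))).2
      omega
    intro r hr'
    have h := congrArg (fun σ : MulAut R => ((σ ⟨r, hr'⟩ : R) : H' ⧸ O)) hα
    simp only [MulAut.one_apply] at h
    rw [show ((α ⟨r, hr'⟩ : R) : H' ⧸ O) = y * r * y⁻¹ from MulAut.conjNormal_apply ..] at h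
    exact (mul_inv_eq_iff_eq_mul.mp h).symm
  obtain ⟨b, hb⟩ := hRp ⟨y, CfsgLib.centralizer_pCore_le Nat.prime_three hK3 hyC⟩
  exact orderOf_eq_one_iff.mp (Nat.eq_one_of_dvd_coprimes
    (((Nat.coprime_primes hp Nat.prime_three).mpr (by omega)).pow 1 b)
    (orderOf_dvd_of_pow_eq_one (by rw [pow_one]; exact hyp)) (orderOf_dvd_of_pow_eq_one (congrArg Subtype.val hb)))

end CfsgLib.FourComm
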